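import Groth.Agent.AmpleVan.IdealCrit
import Groth.Agent.AmpleVan.FinGen

/-!
# Finitely many global sections generating a globally generated coherent module
-/

set_option linter.style.haveILetI false
set_option backward.isDefEq.respectTransparency false
set_option backward.isDefEq.respectTransparency.types false

universe u

open CategoryTheory CategoryTheory.Limits AlgebraicGeometry TopologicalSpace Opposite

noncomputable section

namespace Groth.Agent.RegPow

open Groth.Agent InvX

/-- An epimorphism from copies of the structure module gives generating sections. -/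
theorem generatedBy_of_epi {X : Scheme.{u}} {L : X.Modules} {ι : Type u} (p : (∐ fun _ : ι => Coh.structureModule X) ⟶ L)
    [Epi p] : ProjUP.GeneratedBy L fun i => InvX.one (Sigma.ι (fun _ : ι => Coh.structureModule X) i ≫ p) := by
  intro x
  let R := X.presheaf.stalk x
  let S : Submodule R (L.presheaf.stalk x) := Submodule.span R (Set.range fun i =>
    (L.presheaf.germ ⊤ x trivial).hom (InvX.one (Sigma.ι (fun _ : ι => Coh.structureModule X) i ≫ p)))
  let N : ModuleCat.{u} R := ModuleCat.of R (L.presheaf.stalk x ⧸ S)
  let g : L ⟶ KFlatLib.skyObjM x N :=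
    ⟨{ app := fun V => ModuleCat.ofHom (Y := KFlatLib.skyObj x N V)
        { toFun := fun a h => (S.mkQ ((L.presheaf.germ V.unop x h.down).hom a) : N)
          map_add' := fun a b => funext fun h => by
            show S.mkQ ((L.presheaf.germ V.unop x h.down).hom (a + b)) = _
            exact ((congrArg S.mkQ (map_add (L.presheaf.germ V.unop x h.down).hom a b)).trans
              (map_add S.mkQ _ _))
          map_smul' := fun r a => funext fun h => by
            show S.mkQ ((L.presheaf.germ V.unop x h.down).hom (r • a)) =
              (X.presheaf.germ V.unop x h.down r) • (S.mkQ ((L.presheaf.germ V.unop x h.down).hom a) : N)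
            exact ((congrArg S.mkQ (QCoh.germ_smul' L h.down r a)).trans
              (map_smul S.mkQ _ _)) }
       naturality := fun {V W} i => by
         ext a
         funext h
         exact congrArg S.mkQ (L.presheaf.germ_res_apply i.unop x h.down a) }⟩
  have hg0 : g = 0 := by
    rw [← cancel_epi p, Limits.comp_zero]
    refine Sigma.hom_ext _ _ fun i => ?_
    rw [Limits.comp_zero, ← Category.assoc]
    refine QCoh.hom_ext_app fun V a => funext fun h => ?_
    show S.mkQ ((L.presheaf.germ V x h.down).hom
      ((Sigma.ι (fun _ : ι => Coh.structureModule X) i ≫ p).app V a)) = 0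
    rw [Submodule.mkQ_apply, Submodule.Quotient.mk_eq_zero]
    rw [show (Sigma.ι (fun _ : ι => Coh.structureModule X) i ≫ p).app V a =
      (show Γ(X, V) from a) • AModX.res L (le_top : V ≤ ⊤)
        (InvX.one (Sigma.ι (fun _ : ι => Coh.structureModule X) i ≫ p)) from InvX.app_eq_smul _ _]
    rw [QCoh.germ_smul' L h.down]
    refine Submodule.smul_mem _ _ ?_
    rw [show (L.presheaf.germ V x h.down).hom (AModX.res L (le_top : V ≤ ⊤)
        (InvX.one (Sigma.ι (fun _ : ι => Coh.structureModule X) i ≫ p))) =
      (L.presheaf.germ ⊤ x trivial).hom (InvX.one (Sigma.ι (fun _ : ι => Coh.structureModule X) i ≫ p))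
      from L.presheaf.germ_res_apply (homOfLE le_top) x h.down _]
    exact Submodule.subset_span ⟨i, rfl⟩
  refine eq_top_iff.2 fun m _ => ?_
  obtain ⟨U, hxU, e, rfl⟩ := L.presheaf.exists_germ_eq (x := x) m
  rw [← Submodule.Quotient.mk_eq_zero]
  have := congrArg (fun φ => (φ : L ⟶ KFlatLib.skyObjM x N).app U e) hg0
  exact congrFun this ⟨hxU⟩

theorem exists_fin_generatedBy_of_gg {X : Scheme.{u}} [CompactSpace X] {F : X.Modules} (hF : Coh.IsCoh F)
    (h : Curv2.IsGloballyGenerated F) : ∃ (r : ℕ) (s : Fin r → Γ(F, ⊤)), ProjUP.GeneratedBy F s := by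
  obtain ⟨ι, p, hp⟩ := h
  haveI := hp
  obtain ⟨r, j, hj⟩ := AmpleVan.exists_fin_generatedBy hF _ (generatedBy_of_epi (ι := ι) p)
  exact ⟨r, _, hj⟩

end Groth.Agent.RegPow
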