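import Groth.Agent.RegPow.Sys
import Groth.Agent.HilbPoly.PnTwist
import Groth.Agent.Lib.ProjRegularPn
import Groth.Agent.PnCoh.Chow.Proper

/-!
# A linear bound on the regularity of powers of a globally generated twisted ideal
-/

noncomputable section

set_option autoImplicit false
set_option linter.style.haveILetI false
set_option linter.unusedSectionVars false
set_option backward.isDefEq.respectTransparency false
set_option backward.isDefEq.respectTransparency.types false
set_option maxHeartbeats 1000000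

universe u

open CategoryTheory CategoryTheory.Limits AlgebraicGeometry TopologicalSpace Opposite
open Groth.Agent.H23.PicMul

namespace Groth.Agent.RegPow

open Groth.Agent

variable (k : Type u) [Field k] (n : ℕ)

theorem cl_twist_add (a b : ℤ) :
    PicF.cl (Twist.twistProjSpace n k (a + b)) =
      PicF.cl (Twist.twistProjSpace n k a) * PicF.cl (Twist.twistProjSpace n k b) := by
  obtain ⟨e⟩ := HilbPoly.nonempty_add n k a b
  rw [← cl_tensor]
  exact (cl_eq_iff.2 ⟨e⟩).symm

theorem cl_twist_zero : PicF.cl (Twist.twistProjSpace n k 0) = 1 := by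
  obtain ⟨e⟩ := HilbPoly.nonempty_pow n k 0
  rw [← pow_zero (PicF.cl (Twist.twistProjSpace n k 1)), ← cl_tensorPow]
  exact cl_eq_iff.2 ⟨e⟩

theorem cl_twist_pow (a : ℤ) : ∀ p : ℕ,
    PicF.cl (Twist.twistProjSpace n k a) ^ p = PicF.cl (Twist.twistProjSpace n k (a * (p : ℤ)))
  | 0 => by rw [pow_zero, Nat.cast_zero, mul_zero, cl_twist_zero]
  | p + 1 => by rw [pow_succ, cl_twist_pow a p, ← cl_twist_add, Nat.cast_succ, mul_add, mul_one]

theorem exists_linear_bound (I : (CohB1.ProjSpace n k).IdealSheafData) (d : ℤ)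
    (hd : Curv2.IsGloballyGenerated (CohB1.tensorMod (ClSub.idealMod I) (Twist.twistProjSpace n k d))) :
    ∃ e : ℤ, ∀ p : ℕ, ∀ m : ℤ, d * (p : ℤ) + e ≤ m →
      Curv2.IsMRegular k n (ClSub.idealMod (I ^ p)) m := by
  haveI hP : IsNoetherian (Proj (CohB1.polyGrading n k)) := Proj16.isNoetherian_proj _
  haveI : IsLocallyNoetherian (CohB1.ProjSpace n k) := hP.toIsLocallyNoetherian
  haveI : CompactSpace (CohB1.ProjSpace n k) := hP.toCompactSpace
  haveI := PnCoh.Chow.isProper_toSpec n k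
  haveI : IsProper ((CohB1.ProjSpace n k) ↘ Spec (CommRingCat.of k)) :=
    inferInstanceAs (IsProper (CohB1.ProjSpace.toSpec n k))
  let O1 := Twist.twistProjSpace n k 1
  let Od := Twist.twistProjSpace n k d
  have hOd : PicF.IsInvertible Od :=
    PnCoh.Finite.isInvertible_twist (ProjRegular.coords k n) ProjRegular.coords_mem ProjRegular.coords_cover d
  let L := CohB1.tensorMod (Coh.structureModule (CohB1.ProjSpace n k)) Od
  have hL : PicF.IsInvertible L := InvX.isInvertible_tensorMod InvX.isInvertible_structureModule hOd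
  have hI : Coh.IsCoh (ClSub.idealMod I) :=
    QCoh.isCoh_kernel QCoh.isCoh_structureModule' (ParShLib.isCoh_quotMod I) _
  obtain ⟨r, s, hs⟩ := exists_fin_generatedBy_of_gg (AmpleVan.isCoh_tensor hI (AmpleVan.isCoh_invertible hOd)) hd
  obtain ⟨m₀, hm₀⟩ := AmpleVan.exists_uniform_vanishing (A := k) (HilbPoly.isAmple_twistProjSpace_one n k)
    (powSys hL (adapted_of_generated hOd hs)) (fun q => isCoh_GP hL q) (genFrom_powSys hL (adapted_of_generated hOd hs))
  refine ⟨(m₀ : ℤ) + n, fun p m hm i hi hin => ?_⟩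
  obtain ⟨q, rfl⟩ : ∃ q, i = q + 1 := ⟨i - 1, by omega⟩
  obtain ⟨j, hj, hjm⟩ : ∃ j : ℕ, m - ((q + 1 : ℕ) : ℤ) = d * (p : ℤ) + j ∧ m₀ ≤ j :=
    ⟨(m - ((q + 1 : ℕ) : ℤ) - d * (p : ℤ)).toNat, by omega, by omega⟩
  obtain ⟨e₁⟩ := nonempty_GP_iso hL p (I := I)
  obtain ⟨e₂⟩ : Nonempty (CohB1.tensorMod (CohB1.tensorMod (ClSub.idealMod (I ^ p)) (CohB1.tensorPow L p))
      (CohB1.tensorPow O1 j) ≅
      CohB1.tensorMod (ClSub.idealMod (I ^ p)) (Twist.twistProjSpace n k (m - ((q + 1 : ℕ) : ℤ)))) := cl_eq_iff.1 (by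
    rw [cl_tensor, cl_tensor, cl_tensor, cl_tensorPow, cl_tensorPow, cl_tensor, ← one_def, one_mul,
      mul_assoc, cl_twist_pow, cl_twist_pow, ← cl_twist_add, one_mul, hj])
  exact QCoh.subsingleton_HH_of_iso ((AmpleVan.tw (CohB1.tensorPow O1 j)).mapIso e₁ ≪≫ e₂) _ (hm₀ j hjm p q)

end Groth.Agent.RegPow
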