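import Groth.Agent.RegPow.GG
import Groth.Agent.FlatTwist.Frame
import Groth.Agent.IntSym.QuotTensor
import Groth.Agent.IdealSub.OfMono
import Groth.Agent.QCoh.DevissageSum
import Groth.Agent.CohPullLib.ModDescend

/-!
# The system of twisted powers of a globally generated twisted ideal
-/

noncomputable section

set_option autoImplicit false
set_option linter.style.haveILetI false
set_option linter.unusedSectionVars false
set_option backward.isDefEq.respectTransparency false
set_option backward.isDefEq.respectTransparency.types false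
set_option maxHeartbeats 1000000

universe u

open CategoryTheory CategoryTheory.Limits AlgebraicGeometry TopologicalSpace Opposite

attribute [local instance] HasDerivedCategory.standard
attribute [local instance] Groth.Agent.QCoh.hasFiniteBiproducts

namespace Groth.Agent.RegPow

open Groth.Agent AmpleVan InvX AModX

variable {X : Scheme.{u}} {L : X.Modules} {U : X.Opens} (e : Γ(L, U))

/-- Tensoring `n` times with a frame. -/
def theta (M : X.Modules) : ∀ n : ℕ, Γ(M, U) → Γ((itw L n).obj M, U)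
  | 0, m => m
  | n + 1, m => tmul (theta M n m) e

theorem theta_natural {M N : X.Modules} (g : M ⟶ N) :
    ∀ (n : ℕ) (m : Γ(M, U)), ((itw L n).map g).app U (theta e M n m) = theta e N n (g.app U m)
  | 0, _ => rfl
  | n + 1, m => (map_tmul_left ((itw L n).map g) (theta e M n m) e).trans
      (congrArg (tmul · e) (theta_natural g n m))

theorem theta_smul (M : X.Modules) (r : Γ(X, U)) :
    ∀ (n : ℕ) (m : Γ(M, U)), theta e M n (r • m) = r • theta e M n m
  | 0, _ => rfl
  | n + 1, m => (congrArg (tmul · e) (theta_smul M r n m)).trans (tmul_smul_left r _ e)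

theorem theta_add (M : X.Modules) : ∀ (n : ℕ) (m m' : Γ(M, U)), theta e M n (m + m') = theta e M n m + theta e M n m'
  | 0, _, _ => rfl
  | n + 1, m, m' => (congrArg (tmul · e) (theta_add M n m m')).trans (AmpleVan.tmul_add_left _ _ e)

theorem theta_bijective (he : IsFrame e) (M : X.Modules) : ∀ n : ℕ, Function.Bijective (theta e M n)
  | 0 => Function.bijective_id
  | n + 1 => by
    have h := FlatTwist.bijective_tmul_frame (M := (itw L n).obj M) he (le_refl U)
    simp only [AModX.res_self] at h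
    exact h.comp (theta_bijective he M n)

theorem mulSec_theta {σ : Γ(L, ⊤)} {a : Γ(X, U)} (hσ : AModX.res L (le_top : U ≤ ⊤) σ = a • e)
    (M : X.Modules) (n : ℕ) (m : Γ(M, U)) :
    (mulSec σ ((itw L n).obj M)).app U (theta e M n m) = theta e M (n + 1) (a • m) := by
  rw [mulSec_app, hσ, theta_smul, tmul_smul_right]
  rfl

variable (I : X.IdealSheafData) (L) (hL : PicF.IsInvertible L)

/-- The twisted quotient map. -/
abbrev qmap (n : ℕ) : (itw L n).obj (Coh.structureModule X) ⟶ (itw L n).obj (ClSub.quotMod (I ^ n)) :=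
  (itw L n).map (ClSub.toSubscheme (I ^ n))

/-- The twisted powers. -/
abbrev GP (n : ℕ) : X.Modules := kernel (qmap L I n)

variable {L I}

theorem qmap_theta_eq_zero_iff (he : IsFrame e) (hU : IsAffineOpen U) (n : ℕ) (y : Γ(X, U)) :
    (qmap L I n).app U (theta e (Coh.structureModule X) n y) = 0 ↔ y ∈ (I ^ n).ideal ⟨U, hU⟩ := by
  rw [theta_natural, ← IntSym.QuotTensor.toSub_app_eq_zero (I ^ n) hU y]
  have h0 : theta e (ClSub.quotMod (I ^ n)) n 0 = 0 := by
    have := theta_add e (ClSub.quotMod (I ^ n)) n 0 0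
    rw [add_zero] at this
    exact left_eq_add.1 this
  constructor
  · intro h
    exact (theta_bijective e he _ n).1 (h.trans h0.symm)
  · intro h
    rw [h, h0]

variable (L I) in
/-- Frames with the coordinates of the multiplying sections. -/
def Adapted {r : ℕ} (σ : Fin r → Γ(L, ⊤)) : Prop :=
  ∀ x : X, ∃ (V : X.Opens) (hV : IsAffineOpen V) (_ : x ∈ V) (e : Γ(L, V)) (a : Fin r → Γ(X, V)),
    IsFrame e ∧ (∀ i, AModX.res L (le_top : V ≤ ⊤) (σ i) = a i • e) ∧
      Ideal.span (Set.range a) = I.ideal ⟨V, hV⟩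

variable {r : ℕ} {σ : Fin r → Γ(L, ⊤)} (hσ : Adapted L I σ)

theorem itw_qcoh (hL : PicF.IsInvertible L) {M : X.Modules} (hM : Coh.IsQCoh M) (n : ℕ) :
    Coh.IsQCoh ((itw L n).obj M) := by
  induction n with
  | zero => exact hM
  | succ n ih => exact KFlatLib.isQCoh_tensor (M := (itw L n).obj M) (N := L) ih (ProjUPX.isQCoh_of_isInvertible hL)

include hL in
theorem isQCoh_GP (n : ℕ) : Coh.IsQCoh (GP L I n) :=
  QCoh.isQCoh_kernel (itw_qcoh hL QCoh.isQCoh_structureModule n)
    (itw_qcoh hL (QCoh.isQCoh_pushforward (I ^ n).subschemeι QCoh.isQCoh_structureModule) n) _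

include hσ hL in
theorem lift_zero (n : ℕ) (i : Fin r) :
    (kernel.ι (qmap L I n) ≫ mulSec (σ i) ((itw L n).obj (Coh.structureModule X))) ≫ qmap L I (n + 1) = 0 := by
  choose V hV hxV e a he ha hspan using hσ
  refine IdealSub.hom_eq_of_affine _ _ fun W s => ?_
  show _ = (0 : _)
  refine AModX.eq_of_locally _ _ fun x hx => ?_
  obtain ⟨_, ⟨O, hO, rfl⟩, hxO, hle⟩ := X.isBasis_affineOpens.exists_subset_of_mem_open
    (show x ∈ V x ⊓ W.1 from ⟨hxV x, hx⟩) (V x ⊓ W.1).isOpen
  have hOV : O ≤ V x := fun z hz => (hle hz).1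
  have hOW : O ≤ W.1 := fun z hz => (hle hz).2
  refine ⟨O, hOW, hxO, ?_⟩
  rw [map_zero, ← AModX.app_res]
  have hfe := (he x).res hOV
  generalize AModX.res (GP L I n) hOW s = t
  obtain ⟨y, hy⟩ := (theta_bijective _ hfe (Coh.structureModule X) n).2 ((kernel.ι (qmap L I n)).app O t)
  have hyI : (show Γ(X, O) from y) ∈ (I ^ n).ideal ⟨O, hO⟩ := by
    refine (qmap_theta_eq_zero_iff _ hfe hO n y).1 ?_
    rw [hy]
    exact congr(($(kernel.condition (qmap L I n))).app O t)
  have hσO : AModX.res L (le_top : O ≤ ⊤) (σ i) = AModX.resR hOV (a x i) • AModX.res L hOV (e x) := by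
    rw [← AModX.res_smul, ← ha, AModX.res_res]
  show (qmap L I (n + 1)).app O ((mulSec (σ i) _).app O ((kernel.ι (qmap L I n)).app O t)) = 0
  rw [← hy, mulSec_theta _ hσO]
  refine (qmap_theta_eq_zero_iff _ hfe hO (n + 1) _).2 ?_
  show AModX.resR hOV (a x i) * (show Γ(X, O) from y) ∈ _
  simp only [Scheme.IdealSheafData.ideal_pow, Pi.pow_apply] at hyI ⊢
  rw [pow_succ']
  refine Ideal.mul_mem_mul ?_ hyI
  rw [← I.map_ideal (U := ⟨O, hO⟩) (V := ⟨V x, hV x⟩) (show O ≤ V x from hOV)]
  exact Ideal.mem_map_of_mem _ ((hspan x).le (Ideal.subset_span ⟨i, rfl⟩))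

/-- The system of twisted powers. -/
def powSys : FFun.Gen.Sys X r where
  G n := GP L I n
  t n i := kernel.lift _ (kernel.ι (qmap L I n) ≫ mulSec (σ i) _) (lift_zero hL hσ n i)
  comm n i j := by
    rw [← cancel_mono (kernel.ι (qmap L I (n + 1 + 1)))]
    simp only [Category.assoc, kernel.lift_ι]
    rw [← Category.assoc, kernel.lift_ι, ← Category.assoc, kernel.lift_ι, Category.assoc, Category.assoc]
    exact congrArg (kernel.ι (qmap L I n) ≫ ·) ((twSys hL σ (Coh.structureModule X)).comm n i j)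

theorem genFrom_powSys : (powSys hL hσ).GenFrom 0 := by
  intro n _
  have hσ' := hσ
  choose V hV hxV e a he ha hspan using hσ'
  let S := powSys hL hσ
  refine CohPullLib.epi_of_surjective_cover (QCoh.isQCoh_biproduct _ fun _ => isQCoh_GP hL n) (isQCoh_GP hL (n + 1))
    _ V hV (fun x => ⟨x, hxV x⟩) fun x s => ?_
  obtain ⟨y, hy⟩ := (theta_bijective _ (he x) (Coh.structureModule X) (n + 1)).2
    ((kernel.ι (qmap L I (n + 1))).app (V x) s)
  have hyI : (show Γ(X, V x) from y) ∈ (I ^ (n + 1)).ideal ⟨V x, hV x⟩ := by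
    refine (qmap_theta_eq_zero_iff _ (he x) (hV x) (n + 1) y).1 ?_
    rw [hy]
    exact congr(($(kernel.condition (qmap L I (n + 1)))).app (V x) s)
  rw [Scheme.IdealSheafData.ideal_pow, Pi.pow_apply, pow_succ'] at hyI
  -- write the element through the generators
  suffices h : ∀ z : Γ(X, V x), z ∈ (Ideal.span (Set.range (a x))) * (I.ideal ⟨V x, hV x⟩) ^ n →
      ∃ w, (kernel.ι (qmap L I (n + 1))).app (V x) ((S.tAll n).app (V x) w) =
        theta (e x) (Coh.structureModule X) (n + 1) z by
    obtain ⟨w, hw⟩ := h y (by rwa [hspan x])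
    exact ⟨w, QCoh.app_injective (kernel.ι (qmap L I (n + 1))) (V x) (hw.trans hy)⟩
  intro z hz
  obtain ⟨c, hc, rfl⟩ : ∃ c : Fin r → Γ(X, V x), (∀ i, c i ∈ (I.ideal ⟨V x, hV x⟩) ^ n) ∧
      ∑ i, a x i * c i = z := by
    refine Submodule.mul_induction_on hz (fun p hp q hq => ?_) fun p q hp hq => ?_
    · obtain ⟨b, rfl⟩ := (Submodule.mem_span_range_iff_exists_fun _).1 hp
      refine ⟨fun i => b i * q, fun i => Ideal.mul_mem_left _ _ hq, ?_⟩
      rw [Finset.sum_mul]
      exact Finset.sum_congr rfl fun i _ => by rw [smul_eq_mul]; ring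
    · obtain ⟨b, hb, rfl⟩ := hp
      obtain ⟨b', hb', rfl⟩ := hq
      exact ⟨b + b', fun i => add_mem (hb i) (hb' i), by simp [mul_add, Finset.sum_add_distrib]⟩
  have hlift : ∀ i, ∃ w : Γ(GP L I n, V x),
      (kernel.ι (qmap L I n)).app (V x) w = theta (e x) (Coh.structureModule X) n (c i) := fun i => by
    refine QCoh.exists_kernel_lift _ _ _ ((qmap_theta_eq_zero_iff _ (he x) (hV x) n (c i)).2 ?_)
    simp only [Scheme.IdealSheafData.ideal_pow, Pi.pow_apply]
    exact hc i
  choose w hw using hlift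
  let E : ULift.{u} (Fin r) → X.Modules := fun _ => GP L I n
  refine ⟨∑ i, (biproduct.ι E ⟨i⟩).app (V x) (w i), ?_⟩
  have hsum : ∀ (c : Fin r → Γ(X, V x)),
      theta (e x) (Coh.structureModule X) (n + 1) (∑ i, (show Γ(Coh.structureModule X, V x) from c i)) =
        ∑ i, theta (e x) (Coh.structureModule X) (n + 1) (c i) := fun c =>
    map_sum (AddMonoidHom.mk' (theta (e x) (Coh.structureModule X) (n + 1)) (theta_add _ _ _)) _ _
  refine Eq.trans ?_ (hsum fun i => a x i * c i).symm
  rw [map_sum, map_sum]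
  refine Finset.sum_congr rfl fun i _ => ?_
  have h1 : (S.tAll n).app (V x) ((biproduct.ι E ⟨i⟩).app (V x) (w i)) = (S.t n i).app (V x) (w i) :=
    congr(($(biproduct.ι_desc (fun j : ULift.{u} (Fin r) => S.t n j.down) ⟨i⟩)).app (V x) (w i))
  rw [h1]
  refine (congr(($(kernel.lift_ι (qmap L I (n + 1)) _ (lift_zero hL hσ n i))).app (V x) (w i))).trans ?_
  show (mulSec (σ i) _).app (V x) ((kernel.ι (qmap L I n)).app (V x) (w i)) = _
  rw [hw, mulSec_theta _ (ha x i)]
  rfl

theorem isCoh_GP [IsLocallyNoetherian X] (hL : PicF.IsInvertible L) (n : ℕ) : Coh.IsCoh (GP L I n) :=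
  QCoh.isCoh_of_mono (kernel.ι _) (isCoh_itw hL (CurveDeg.isCoh_of_isInvertible InvX.isInvertible_structureModule) n)
    (isQCoh_GP hL n)

/-- The twisted powers as twists of the modules of the powers. -/
theorem nonempty_GP_iso (hL : PicF.IsInvertible L) (n : ℕ) :
    Nonempty (GP L I n ≅ CohB1.tensorMod (ClSub.idealMod (I ^ n)) (CohB1.tensorPow L n)) := by
  haveI : ∀ m, (itw L m).IsEquivalence := fun m => by
    induction m with
    | zero => exact inferInstanceAs (𝟭 X.Modules).IsEquivalence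
    | succ m ih =>
      haveI := ih
      haveI := isEquivalence_tw hL
      exact inferInstanceAs (itw L m ⋙ tw L).IsEquivalence
  obtain ⟨θ, -⟩ := exists_itwIso L (ClSub.idealMod (I ^ n)) n
  exact ⟨(PreservesKernel.iso (itw L n) (ClSub.toSubscheme (I ^ n))).symm ≪≫ θ⟩

/-- Sections generating `I ⊗ L` give adapted sections of `O ⊗ L`. -/
theorem adapted_of_generated (hL : PicF.IsInvertible L) {s : Fin r → Γ(CohB1.tensorMod (ClSub.idealMod I) L, ⊤)}
    (hs : ProjUP.GeneratedBy (CohB1.tensorMod (ClSub.idealMod I) L) s) :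
    Adapted (CohB1.tensorMod (Coh.structureModule X) L) I
      fun i => ((tw L).map (ClSub.idealModι I)).app ⊤ (s i) := by
  intro x
  obtain ⟨V₀, hxV₀, e₀, he₀⟩ := InvX.exists_frame hL x
  obtain ⟨_, ⟨V, hV, rfl⟩, hxV, hle⟩ := X.isBasis_affineOpens.exists_subset_of_mem_open hxV₀ V₀.2
  have hle' : V ≤ V₀ := hle
  let e := AModX.res L hle' e₀
  have he : IsFrame e := he₀.res hle'
  have hbij := FlatTwist.bijective_tmul_frame (M := ClSub.idealMod I) he (le_refl V)
  simp only [AModX.res_self] at hbij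
  have hj : ∀ i, ∃ j : Γ(ClSub.idealMod I, V),
      tmul j e = AModX.res (CohB1.tensorMod (ClSub.idealMod I) L) (le_top : V ≤ ⊤) (s i) := fun i => hbij.2 _
  choose j hj using hj
  let ι := ClSub.idealModι I
  refine ⟨V, hV, hxV, tmul (show Γ(Coh.structureModule X, V) from (1 : Γ(X, V))) e,
    fun i => (show Γ(X, V) from ι.app V (j i)), isFrame_tmul (InvX.isFrame_one V) he, fun i => ?_, ?_⟩
  · refine (AModX.app_res ((tw L).map (ClSub.idealModι I)) (le_top : V ≤ ⊤) (s i)).symm.trans ?_
    refine (congrArg (((tw L).map ι).app V) (hj i).symm).trans ?_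
    refine (map_tmul_left ι (j i) e).trans ?_
    rw [← tmul_smul_left]
    exact congrArg (tmul · e) (mul_one (show Γ(X, V) from ι.app V (j i))).symm
  · have hq : Coh.IsQCoh (CohB1.tensorMod (ClSub.idealMod I) L) :=
      KFlatLib.isQCoh_tensor (QCoh.isQCoh_kernel QCoh.isQCoh_structureModule
        (QCoh.isQCoh_pushforward I.subschemeι QCoh.isQCoh_structureModule) _) (ProjUPX.isQCoh_of_isInvertible hL)
    have hspan := AmpleVan.span_eq_top_of_germs hq hV
      (fun i => AModX.res (CohB1.tensorMod (ClSub.idealMod I) L) (le_top : V ≤ ⊤) (s i)) fun y hy => by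
        simp only [InvX.germ_res']
        exact hs y
    refine le_antisymm (Ideal.span_le.2 ?_) fun z hz => ?_
    · rintro _ ⟨i, rfl⟩
      exact (IntSym.QuotTensor.toSub_app_eq_zero I hV _).1
        congr(($(kernel.condition (ClSub.toSubscheme I))).app V (j i))
    · obtain ⟨w, hw⟩ := QCoh.exists_kernel_lift (ClSub.toSubscheme I) V (show Γ(Coh.structureModule X, V) from z)
        ((IntSym.QuotTensor.toSub_app_eq_zero I hV z).2 hz)
      obtain ⟨b, hb⟩ := (Submodule.mem_span_range_iff_exists_fun _).1 (hspan.ge (Submodule.mem_top (x := tmul w e)))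
      have hwb : w = ∑ i, b i • j i := by
        refine hbij.1 (hb.symm.trans ?_)
        simp only [← hj, ← tmul_smul_left]
        exact (map_sum (AddMonoidHom.mk' (fun m : Γ(ClSub.idealMod I, V) => tmul m e)
          fun p q => AmpleVan.tmul_add_left p q e) _ _).symm
      have h2 : ι.app V w = (show Γ(Coh.structureModule X, V) from z) := hw
      rw [show z = (show Γ(X, V) from ι.app V w) from h2.symm, hwb, map_sum]
      refine Ideal.sum_mem _ fun i _ => ?_
      rw [Scheme.Modules.Hom.app_smul]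
      exact Ideal.mul_mem_left _ (b i) (Ideal.subset_span ⟨i, rfl⟩)

end Groth.Agent.RegPow
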